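import Cfsg.Agent.H71.E6Deg.Level
import Cfsg.Agent.H46.TypeE6

/-!
# The chain of abelian radicals of E6: data and checks
-/

set_option autoImplicit false

open Cfsg.Lie Cfsg.Agent.H46

namespace Cfsg.Agent.H71.E6Deg

/-- Level 0. -/
def lvl0 : Level 16 where
  A j := [36, 38, 41, 45, 49, 52, 54, 55, 60, 63, 65, 66, 68, 69, 70, 71].getD j.1 0
  P := [56, 42, 57, 39, 43, 58, 37, 40, 44, 59, 46, 47, 48, 50, 51, 53, 61, 62, 64, 67]
  r := 53
  ord := [6, 7, 14, 15, 13, 12, 11, 10, 9, 8, 5, 4, 3, 2, 1, 0]
  src := 4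
  dec := [(53, 39, 51), (53, 43, 48), (64, 39, 62), (64, 58, 48), (67, 42, 64)]
  tor := []

/-- Level 1. -/
def lvl1 : Level 10 where
  A j := [46, 47, 48, 50, 51, 53, 61, 62, 64, 67].getD j.1 0
  P := [56, 42, 57, 39, 43, 58, 37, 40, 44, 59]
  r := 37
  ord := [2, 4, 7, 0, 1, 3, 5, 6, 8, 9]
  src := 3
  dec := [(13, 14, 32), (13, 15, 28), (28, 29, 32), (28, 56, 13), (32, 42, 28), (32, 57, 13), (37, 40, 32), (37, 44, 28), (37, 59, 13)]
  tor := [(37, 2)]

/-- Level 2. -/
def lvl2 : Level 4 where
  A j := [37, 40, 44, 59].getD j.1 0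
  P := [56, 42, 57, 39, 43, 58]
  r := 39
  ord := [1, 0, 2, 3]
  src := 1
  dec := [(14, 15, 29), (29, 56, 14), (39, 43, 29), (39, 58, 14)]
  tor := []

/-- Level 3. -/
def lvl3 : Level 3 where
  A j := [39, 43, 58].getD j.1 0
  P := [56, 42, 57]
  r := 42
  ord := [1, 0, 2]
  src := 1
  dec := [(42, 57, 15)]
  tor := [(15, 5), (42, 2)]

/-- Level 4. -/
def lvl4 : Level 2 where
  A j := [42, 57].getD j.1 0
  P := [56]
  r := 56
  ord := [1, 0]
  src := 1
  dec := []
  tor := [(56, 8)]

/-- Level 5. -/
def lvl5 : Level 1 where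
  A j := [56].getD j.1 0
  P := []
  r := 0
  ord := [0]
  src := 0
  dec := []
  tor := []

theorem lvl0_struct : lvl0.structOk goodE6 = true := by decide +kernel

theorem lvl0_trans : lvl0.transOk goodE6 = true := by decide +kernel

theorem lvl0_cells : lvl0.cellsOk goodE6 = true := by decide +kernel

theorem lvl0_exp : lvl0.cellExp goodE6 = [10, 9, 8, 7, 7, 6, 6, 5, 5, 4, 4, 3, 3, 2, 1, 0] := by decide +kernel

theorem lvl0_nb : lvl0.nbOk goodE6 10 = true := by decide +kernel

theorem lvl0_scal : lvl0.scalOk goodE6 false = true := by decide +kernel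

theorem lvl0_big : lvl0.bigOk goodE6 4 = true := by decide +kernel

theorem lvl1_struct : lvl1.structOk goodE6 = true := by decide +kernel

theorem lvl1_trans : lvl1.transOk goodE6 = true := by decide +kernel

theorem lvl1_cells : lvl1.cellsOk goodE6 = true := by decide +kernel

theorem lvl1_exp : lvl1.cellExp goodE6 = [6, 5, 4, 3, 4, 3, 2, 2, 1, 0] := by decide +kernel

theorem lvl1_nb : lvl1.nbOk goodE6 6 = true := by decide +kernel

theorem lvl1_scal : lvl1.scalOk goodE6 true = true := by decide +kernel

theorem lvl1_big : lvl1.bigOk goodE6 2 = true := by decide +kernel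

theorem lvl2_struct : lvl2.structOk goodE6 = true := by decide +kernel

theorem lvl2_trans : lvl2.transOk goodE6 = true := by decide +kernel

theorem lvl2_cells : lvl2.cellsOk goodE6 = true := by decide +kernel

theorem lvl2_exp : lvl2.cellExp goodE6 = [3, 2, 1, 0] := by decide +kernel

theorem lvl2_nb : lvl2.nbOk goodE6 3 = true := by decide +kernel

theorem lvl2_scal : lvl2.scalOk goodE6 true = true := by decide +kernel

theorem lvl2_full : lvl2.fullOk goodE6 = true := by decide +kernel

theorem lvl3_struct : lvl3.structOk goodE6 = true := by decide +kernel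

theorem lvl3_trans : lvl3.transOk goodE6 = true := by decide +kernel

theorem lvl3_cells : lvl3.cellsOk goodE6 = true := by decide +kernel

theorem lvl3_exp : lvl3.cellExp goodE6 = [2, 1, 0] := by decide +kernel

theorem lvl3_nb : lvl3.nbOk goodE6 2 = true := by decide +kernel

theorem lvl3_scal : lvl3.scalOk goodE6 true = true := by decide +kernel

theorem lvl3_full : lvl3.fullOk goodE6 = true := by decide +kernel

theorem lvl4_struct : lvl4.structOk goodE6 = true := by decide +kernel

theorem lvl4_trans : lvl4.transOk goodE6 = true := by decide +kernel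

theorem lvl4_cells : lvl4.cellsOk goodE6 = true := by decide +kernel

theorem lvl4_exp : lvl4.cellExp goodE6 = [1, 0] := by decide +kernel

theorem lvl4_nb : lvl4.nbOk goodE6 1 = true := by decide +kernel

theorem lvl4_scal : lvl4.scalOk goodE6 true = true := by decide +kernel

theorem lvl4_full : lvl4.fullOk goodE6 = true := by decide +kernel

theorem lvl5_struct : lvl5.structOk goodE6 = true := by decide +kernel

theorem lvl5_trans : lvl5.transOk goodE6 = true := by decide +kernel

theorem lvl5_cells : lvl5.cellsOk goodE6 = true := by decide +kernel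

theorem lvl5_exp : lvl5.cellExp goodE6 = [0] := by decide +kernel

theorem lvl5_nb : lvl5.nbOk goodE6 0 = true := by decide +kernel

theorem lvl5_full : lvl5.fullOk goodE6 = true := by decide +kernel

end Cfsg.Agent.H71.E6Deg
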